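import Groth.Agent.Lib.Equi17.Closure
import Groth.Agent.Lib.DvrClosure.Basic
import Groth.Prelude.Def_BlowUp2

/-!
# Flat closures along traits and flat strict transforms
-/

set_option autoImplicit false
universe u

open CategoryTheory Limits AlgebraicGeometry IsLocalRing GrothLib.SpSheaf17

namespace GrothLib.Equi17

variable {R : Type u} [CommRing R] [IsDomain R] [IsDiscreteValuationRing R]

/-- An ideal sheaf on a trait not containing the generic point in its support is effective Cartier. -/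
theorem isEffCartier_trait (I : (Spec (CommRingCat.of R)).IdealSheafData) (h : gp R ∉ (I.support : Set _)) :
    BlowUp.IsEffCartierIdeal I := by
  intro x
  refine ⟨⟨⊤, isAffineOpen_top _⟩, trivial, ?_⟩
  let e := (Scheme.ΓSpecIso (CommRingCat.of R)).commRingCatIsoToRingEquiv
  haveI : IsDomain Γ(Spec (CommRingCat.of R), ⊤) := e.toMulEquiv.isDomain R
  haveI : IsPrincipalIdealRing Γ(Spec (CommRingCat.of R), ⊤) :=
    IsPrincipalIdealRing.of_surjective e.symm.toRingHom e.symm.surjective
  obtain ⟨g, hg⟩ := (IsPrincipalIdealRing.principal (I.ideal ⟨⊤, isAffineOpen_top _⟩)).principal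
  refine ⟨g, mem_nonZeroDivisors_of_ne_zero ?_, hg⟩
  rintro rfl
  refine h ?_
  rw [SetLike.mem_coe, Scheme.IdealSheafData.mem_support_iff_of_mem (U := ⟨⊤, isAffineOpen_top _⟩) trivial,
    Scheme.mem_zeroLocus_iff]
  intro c hc
  rw [hg] at hc
  obtain ⟨d, rfl⟩ := Submodule.mem_span_singleton.1 hc
  rw [smul_zero, Scheme.basicOpen_zero]
  exact fun h => h

/-- A morphism avoiding the inverse image of the centre kills the ideal of the strict transform. -/
theorem le_ker_of_avoid {P W : Scheme.{u}} (g : W ⟶ P) (ℰ : P.IdealSheafData) (𝒥 : P.IdealSheafData)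
    (h𝒥 : ∀ (V : P.affineOpens) (a : Γ(P, V.1)), a ∈ 𝒥.ideal V ↔
      BlowUp.KilledByPowerNear ℰ (Coh.structureModule P) V a) (hg : ∀ w, g w ∉ ℰ.support) :
    𝒥 ≤ g.ker := by
  refine Scheme.IdealSheafData.le_ofIdeals_iff.2 fun V a ha => ?_
  obtain ⟨n, hn⟩ := (h𝒥 V a).1 ha
  rw [RingHom.mem_ker]
  refine TopCat.Presheaf.section_ext ⟨W.presheaf, W.IsSheaf⟩ (g ⁻¹ᵁ V.1) _ _ fun w hw => ?_
  have hv : g w ∈ V.1 := hw
  have hsupp := hg w
  rw [Scheme.IdealSheafData.mem_support_iff_of_mem hv, Scheme.mem_zeroLocus_iff] at hsupp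
  push Not at hsupp
  obtain ⟨e, he, hve⟩ := hsupp
  have h0 : e ^ n * a = 0 := hn (e ^ n) (by
    rw [Scheme.IdealSheafData.ideal_pow, Pi.pow_apply]
    exact Ideal.pow_mem_pow he n)
  rw [Scheme.mem_basicOpen _ _ _ hv] at hve
  have h1 := congrArg (P.presheaf.germ V.1 (g w) hv) h0
  rw [map_mul, map_pow, map_zero] at h1
  have h2 : P.presheaf.germ V.1 (g w) hv a = 0 := ((hve.pow n).mul_right_eq_zero).1 h1
  have h3 := congrArg (g.stalkMap w).hom h2
  rw [map_zero] at h3
  refine Eq.trans ?_ (map_zero (W.presheaf.germ (g ⁻¹ᵁ V.1) w hw).hom).symm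
  exact ((ConcreteCategory.congr_hom (Scheme.Hom.germ_stalkMap g V.1 w hv) a).symm).trans h3

theorem closure_eq_comap {X S Z S' : Scheme.{u}} (p : X ⟶ S) (ι : Z ⟶ X)
    (𝓘 : S.IdealSheafData) (b : S' ⟶ S)
    (𝒥 : (pullback (ι ≫ p) b).IdealSheafData)
    (h𝒥 : ∀ (V : (pullback (ι ≫ p) b).affineOpens) (a : Γ(pullback (ι ≫ p) b, V.1)), a ∈ 𝒥.ideal V ↔
      BlowUp.KilledByPowerNear ((𝓘.comap (ι ≫ p)).comap (pullback.fst (ι ≫ p) b)) (Coh.structureModule (pullback (ι ≫ p) b)) V a)
    [Flat (𝒥.subschemeι ≫ pullback.snd (ι ≫ p) b)]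
    (f : Spec (CommRingCat.of R) ⟶ S) (hf : f.base (gp R) ∉ (𝓘.support : Set ↥S))
    (f' : Spec (CommRingCat.of R) ⟶ S')
    (F : pullback (ι ≫ p) (Spec.map (CommRingCat.ofHom (algebraMap R (FractionRing R))) ≫ f) ⟶ pullback (ι ≫ p) f)
    (h1 : F ≫ pullback.fst _ _ = pullback.fst _ _)
    (h2 : F ≫ pullback.snd _ _ = pullback.snd _ _ ≫ Spec.map (CommRingCat.ofHom (algebraMap R (FractionRing R))))
    (G : pullback (ι ≫ p) f ⟶ pullback (ι ≫ p) b)
    (g1 : G ≫ pullback.fst _ _ = pullback.fst _ _) (g2 : G ≫ pullback.snd _ _ = pullback.snd _ _ ≫ f')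
    (hf' : f' ≫ b = f) :
    F.ker = 𝒥.comap G := by
  have hgk : ∀ k, Spec.map (CommRingCat.ofHom (algebraMap R (FractionRing R))) k = gp R := fun k => by
    refine (PrimeSpectrum.ext ?_).trans (genericPoint_eq_bot_of_affine _).symm
    show Ideal.comap (algebraMap R (FractionRing R)) (k : PrimeSpectrum (FractionRing R)).asIdeal = ⊥
    rw [show (k : PrimeSpectrum (FractionRing R)).asIdeal = ⊥ from
        ((Ideal.eq_bot_or_top _).resolve_right (k : PrimeSpectrum (FractionRing R)).isPrime.ne_top),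
      ← RingHom.ker_eq_comap_bot]
    exact (RingHom.injective_iff_ker_eq_bot _).1 (IsFractionRing.injective R (FractionRing R))
  obtain ⟨π, hπ⟩ := IsDiscreteValuationRing.exists_irreducible R
  haveI := GrothLib.ArSurf29.isLocalizationAway_fractionRing hπ
  haveI : IsOpenImmersion (Spec.map (CommRingCat.ofHom (algebraMap R (FractionRing R)))) :=
    IsOpenImmersion.of_isLocalization π
  have hsq : IsPullback F (pullback.snd (ι ≫ p) (Spec.map (CommRingCat.ofHom (algebraMap R (FractionRing R))) ≫ f))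
      (pullback.snd (ι ≫ p) f) (Spec.map (CommRingCat.ofHom (algebraMap R (FractionRing R)))) :=
    IsPullback.of_right (h1.symm ▸ IsPullback.of_hasPullback (ι ≫ p) _) h2 (IsPullback.of_hasPullback (ι ≫ p) f)
  haveI : IsOpenImmersion F := MorphismProperty.of_isPullback hsq.flip inferInstance
  haveI : QuasiCompact F := MorphismProperty.of_isPullback hsq.flip inferInstance
  have hbot : (gp R : PrimeSpectrum R).asIdeal = ⊥ :=
    congrArg PrimeSpectrum.asIdeal (genericPoint_eq_bot_of_affine _)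
  set q := pullback.snd (ι ≫ p) f with hq
  have hrange : Set.range F = Set.range (q.fiberι (gp R)) := by
    rw [q.range_fiberι]
    ext v
    constructor
    · rintro ⟨e, rfl⟩
      show q (F e) = gp R
      rw [← Scheme.Hom.comp_apply, h2, Scheme.Hom.comp_apply]
      exact hgk _
    · intro hv
      obtain ⟨e, he, -⟩ := Scheme.Pullback.exists_preimage_pullback v (closedPoint (FractionRing R))
        ((show q v = gp R from hv).trans (hgk _).symm)
      refine ⟨hsq.isoPullback.inv e, ?_⟩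
      rw [← Scheme.Hom.comp_apply, hsq.isoPullback_inv_fst, he]
  haveI := GrothLib.DvrClosure.isOpenImmersion_fromSpecResidueField (A := R) (gp R) hbot
  haveI : IsOpenImmersion (q.fiberι (gp R)) := inferInstanceAs (IsOpenImmersion (pullback.fst _ _))
  have hker : F.ker = (q.fiberι (gp R)).ker := by
    rw [← IsOpenImmersion.isoOfRangeEq_hom_fac F (q.fiberι (gp R)) hrange, Scheme.Hom.ker_comp_of_isIso]
  refine le_antisymm ?_ ?_
  · rw [hker, ← (𝒥.comap G).ker_subschemeι]
    refine GrothLib.DvrClosure.ker_le_of_flat q (gp R) hbot _ ?_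
    have hbot' : IsPullback G q (pullback.snd (ι ≫ p) b) f' :=
      IsPullback.of_right (by rw [g1, hf']; exact IsPullback.of_hasPullback (ι ≫ p) f) g2
        (IsPullback.of_hasPullback (ι ≫ p) b)
    have htop : IsPullback (pullback.snd G 𝒥.subschemeι) (pullback.fst G 𝒥.subschemeι) 𝒥.subschemeι G :=
      (IsPullback.of_hasPullback G 𝒥.subschemeι).flip
    haveI : Flat (pullback.fst G 𝒥.subschemeι ≫ q) :=
      MorphismProperty.of_isPullback (htop.paste_vert hbot') inferInstance
    rw [← Scheme.IdealSheafData.comapIso_hom_fst, Category.assoc]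
    infer_instance
  · rw [← Scheme.IdealSheafData.le_map_iff_comap_le, ← Scheme.Hom.ker_comp]
    refine le_ker_of_avoid _ _ 𝒥 h𝒥 fun e h => hf ?_
    rw [← SetLike.mem_coe, Scheme.IdealSheafData.support_comap] at h
    simp only [TopologicalSpace.Closeds.coe_preimage, Set.mem_preimage, Scheme.IdealSheafData.support_comap] at h
    have he : f.base (gp R) = (ι ≫ p) (pullback.fst (ι ≫ p) b ((F ≫ G) e)) := by
      rw [← Scheme.Hom.comp_apply (F ≫ G), Category.assoc, g1, h1, ← Scheme.Hom.comp_apply, pullback.condition,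
        Scheme.Hom.comp_apply, Scheme.Hom.comp_apply, hgk]
    rw [he]
    exact h

end GrothLib.Equi17
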