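import Groth.Agent.Lib.PBDeg17.SpSheaf
import Groth.Agent.Lib.Equidim6.RelDim
import Groth.Agent.Lib.SchDense.FlatClosure
import Groth.Agent.Lib.ArSurf29.Global
import Groth.Agent.Lib.FlatClosure.Basic

/-!
# Flat closures along traits are universally equidimensional
-/

set_option autoImplicit false
universe u

open CategoryTheory Limits AlgebraicGeometry IsLocalRing GrothLib.CycDiv GrothLib.SpSheaf17

namespace GrothLib.Equi17

/-- A flat morphism of relative dimension `r` is universally equidimensional. -/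
theorem univ_equidim {W B : Scheme.{u}} (q : W ⟶ B) [Flat q] [LocallyOfFiniteType q] {r : ℕ}
    (hr : Cyc.HasRelDim q r) (B' : Scheme.{u}) (g : B' ⟶ B) :
    (∀ w : ↥(pullback q g), FlatMor.fibreDimAt (pullback.snd q g) w = r) ∧
      ∀ C ∈ irreducibleComponents ↥(pullback q g),
        closure ((pullback.snd q g).base '' C) ∈ irreducibleComponents ↥B' := by
  have hc : IsPullback (pullback.fst q g) (pullback.snd q g) q g := IsPullback.of_hasPullback q g
  haveI : LocallyOfFiniteType (pullback.snd q g) := MorphismProperty.pullback_snd _ _ inferInstance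
  refine ⟨(GrothLib.Equidim6.hasRelDim_iff _ r).1 (GrothLib.CycFlat.hasRelDim_of_isPullback hc hr),
    fun C hC => ?_⟩
  obtain ⟨ξ, hξ⟩ := QuasiSober.sober hC.1 (isClosed_of_mem_irreducibleComponents C hC)
  have hmax : ∀ w, w ⤳ ξ → w = ξ := fun w hw => by
    have h1 : C ⊆ closure {w} := by rw [← hξ.def]; exact hw.closure_subset
    have h2 := hC.2 isIrreducible_singleton.closure h1
    exact (hw.antisymm (hξ.specializes (h2 (subset_closure rfl)))).eq
  have himg : closure ((pullback.snd q g).base '' C) = closure {(pullback.snd q g) ξ} := by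
    refine subset_antisymm (closure_minimal ?_ isClosed_closure)
      (closure_mono (Set.singleton_subset_iff.2 ⟨ξ, hξ.mem, rfl⟩))
    rintro _ ⟨c, hcC, rfl⟩
    exact ((hξ.specializes hcC).map (pullback.snd q g).continuous).mem_closure
  rw [himg]
  refine GrothLib.CycFlat.closure_mem_irreducibleComponents fun y hy => ?_
  obtain ⟨w, hw, rfl⟩ := Flat.generalizingMap (pullback.snd q g) hy
  rw [hmax w hw]

variable {R : Type u} [CommRing R] [IsDomain R] [IsDiscreteValuationRing R]

/-- The fibres are equidimensional when the generic fibre is. -/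
theorem hasRelDim_dvr {W : Scheme.{u}} (q : W ⟶ Spec (CommRingCat.of R)) [Flat q] [LocallyOfFiniteType q]
    {r : ℕ} (h : ∀ w, q w = gp R → GrothLib.CycFlat.MaxFib q w → GrothLib.CycFlat.resTrdeg q w = r) :
    Cyc.HasRelDim q r := by
  haveI : IsNoetherianRing (CommRingCat.of R : Type u) := inferInstanceAs (IsNoetherianRing R)
  haveI : IsLocallyNoetherian W := LocallyOfFiniteType.isLocallyNoetherian q
  obtain ⟨t, ht⟩ := IsDiscreteValuationRing.exists_irreducible R
  have htm : maximalIdeal R = Ideal.span {t} :=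
    (IsDiscreteValuationRing.irreducible_iff_uniformizer t).1 ht
  obtain ⟨δ, hW⟩ := GrothLib.CycP1.exists_deltaCompat q (dl R)
  have hδ : Cyc.IsDimFun W δ := Groth.Agent.S9684.result q (dl R) (isSetup_base R) δ hW
  rw [GrothLib.CycFlat.hasRelDim_iff]
  intro w hw
  rcases eq_or_eq R (q w) with hg | hs
  · exact h w hg hw
  obtain ⟨n, hn, hnw⟩ := hW w
  -- a generic point of the generic fibre above
  obtain ⟨u₁, hu₁, hqu₁⟩ := Flat.generalizingMap q (show gp R ⤳ q w from genericPoint_specializes _)
  obtain ⟨u₀, hm, hqu, hu₀⟩ := GrothLib.CycFlat.exists_maxFib_specializes q u₁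
  rw [hqu₁] at hqu
  have huw : u₀ ⤳ w := hu₀.trans hu₁
  obtain ⟨n', hn', hnu⟩ := hW u₀
  have hn'r : n' = r := by
    have : (n' : Cardinal.{u}) = r := hn'.symm.trans (h u₀ hqu hm)
    exact_mod_cast this
  -- the local ring has dimension at most one
  have hmin : maximalIdeal (W.presheaf.stalk w) ∈ (Ideal.span {unif q t w}).minimalPrimes := by
    refine ⟨⟨inferInstance, ?_⟩, fun P hP _ => ?_⟩
    · rw [Ideal.span_singleton_le_iff_mem]
      refine map_nonunit (q.stalkMap w).hom _ ?_
      rw [hs, maximalIdeal_stalk_sp htm]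
      exact Ideal.mem_span_singleton_self _
    · obtain ⟨z, hz, hzP⟩ := GrothLib.CycCut.exists_point_of_prime (⟨P, hP.1⟩ : PrimeSpectrum (W.presheaf.stalk w))
      have hqz : q z = sp R := by
        rcases eq_or_eq R (q z) with hg | hsz
        · refine absurd ?_ (unif_not_mem q ht.ne_zero hz hg)
          rw [hzP]
          exact hP.2 (Ideal.mem_span_singleton_self _)
        · exact hsz
      obtain rfl : z = w := hw z (hqz.trans hs.symm) hz
      rw [GrothLib.CycCut.primeOf_self] at hzP
      exact hzP.le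
  have hdim : ringKrullDim (W.presheaf.stalk w) ≤ 1 := by
    rw [← IsLocalRing.maximalIdeal_height_eq_ringKrullDim]
    have := Ideal.height_le_one_of_isPrincipal_of_mem_minimalPrimes (Ideal.span {unif q t w})
      (maximalIdeal (W.presheaf.stalk w)) hmin
    exact_mod_cast this
  have hle := GrothLib.CycBasic.ringKrullDim_locQuot hδ w u₀ huw
  have h2 : ringKrullDim (Cyc.LocQuot w u₀ huw) ≤ ringKrullDim (W.presheaf.stalk w) :=
    ringKrullDim_quotient_le _
  rw [hle] at h2
  have h3 : ((δ u₀ - δ w).toNat : WithBot ℕ∞) ≤ 1 := h2.trans hdim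
  have h4 : (δ u₀ - δ w).toNat ≤ 1 := by exact_mod_cast h3
  have hne : u₀ ≠ w := fun e => gp_ne_sp R (by rw [← hqu, e, hs])
  have h5 := (hδ u₀ w huw hne).1
  rw [hqu, dl_gp] at hnu
  rw [hs, dl_sp] at hnw
  have hnr : n = r := by omega
  exact hn.trans (by rw [hnr])

/-- Flatness and equidimensionality of the flat closure. -/
theorem closure_flat_hasRelDim {X S Z : Scheme.{u}} (p : X ⟶ S) [LocallyOfFiniteType p] (z : X)
    (r : ℕ) (hr : topologicalKrullDim ↥(closure ({p.asFiber z} : Set ↥(p.fiber (p.base z)))) = r)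
    (ι : Z ⟶ X) [IsClosedImmersion ι] (hZ : Set.range ι.base = closure {z})
    (x : Spec (CommRingCat.of R) ⟶ S) (hx : closure {x.base (gp R)} ∈ irreducibleComponents ↥S)
    (F : pullback (ι ≫ p) (Spec.map (CommRingCat.ofHom (algebraMap R (FractionRing R))) ≫ x) ⟶ pullback (ι ≫ p) x)
    (h1 : F ≫ pullback.fst _ _ = pullback.fst _ _)
    (h2 : F ≫ pullback.snd _ _ = pullback.snd _ _ ≫ Spec.map (CommRingCat.ofHom (algebraMap R (FractionRing R)))) :
    LocallyOfFiniteType (F.imageι ≫ pullback.snd (ι ≫ p) x) ∧ Flat (F.imageι ≫ pullback.snd (ι ≫ p) x) ∧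
      Cyc.HasRelDim (F.imageι ≫ pullback.snd (ι ≫ p) x) r := by
  haveI : IsNoetherianRing (CommRingCat.of R : Type u) := inferInstanceAs (IsNoetherianRing R)
  haveI : LocallyOfFiniteType (pullback.snd (ι ≫ p) x) := MorphismProperty.pullback_snd _ _ inferInstance
  haveI : IsLocallyNoetherian (pullback (ι ≫ p) x) :=
    LocallyOfFiniteType.isLocallyNoetherian (pullback.snd (ι ≫ p) x)
  obtain ⟨π, hπ⟩ := IsDiscreteValuationRing.exists_irreducible R
  haveI := GrothLib.ArSurf29.isLocalizationAway_fractionRing hπ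
  haveI : IsOpenImmersion (Spec.map (CommRingCat.ofHom (algebraMap R (FractionRing R)))) :=
    IsOpenImmersion.of_isLocalization π
  have hsq : IsPullback F (pullback.snd (ι ≫ p) (Spec.map (CommRingCat.ofHom (algebraMap R (FractionRing R))) ≫ x))
      (pullback.snd (ι ≫ p) x) (Spec.map (CommRingCat.ofHom (algebraMap R (FractionRing R)))) :=
    IsPullback.of_right (h1.symm ▸ IsPullback.of_hasPullback (ι ≫ p) _) h2 (IsPullback.of_hasPullback (ι ≫ p) x)
  haveI : IsOpenImmersion F := MorphismProperty.of_isPullback hsq.flip inferInstance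
  haveI : QuasiCompact F := MorphismProperty.of_isPullback hsq.flip inferInstance
  haveI : IsSchemeTheoreticallyDominant F.toImage := ⟨GrothLib.FlatClosure.ker_toImage F⟩
  haveI : Flat (F.imageι ≫ pullback.snd (ι ≫ p) x) :=
    GrothLib.SchDense.flat_of_schDominant F.toImage _
      (pullback.snd (ι ≫ p) (Spec.map (CommRingCat.ofHom (algebraMap R (FractionRing R))) ≫ x))
      (by rw [← Category.assoc, F.toImage_imageι]; exact h2)
  refine ⟨inferInstance, inferInstance, hasRelDim_dvr _ fun w hw hm => ?_⟩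
  set j := F.imageι with hj
  have hrange : ∀ v : ↥(pullback (ι ≫ p) x), pullback.snd (ι ≫ p) x v = gp R → v ∈ Set.range j := by
    intro v hv
    have hgk : gp R ∈ Set.range (Spec.map (CommRingCat.ofHom (algebraMap R (FractionRing R)))) := by
      refine ⟨closedPoint (FractionRing R), (PrimeSpectrum.ext ?_).trans (genericPoint_eq_bot_of_affine _).symm⟩
      show Ideal.comap (algebraMap R (FractionRing R)) (maximalIdeal (FractionRing R)) = ⊥
      rw [IsLocalRing.maximalIdeal_eq_bot, ← RingHom.ker_eq_comap_bot]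
      exact (RingHom.injective_iff_ker_eq_bot _).1 (IsFractionRing.injective R (FractionRing R))
    obtain ⟨k, hk⟩ := hgk
    obtain ⟨e, he, -⟩ := Scheme.Pullback.exists_preimage_pullback v k (hv.trans hk.symm)
    refine ⟨F.toImage (hsq.isoPullback.inv e), ?_⟩
    rw [← Scheme.Hom.comp_apply, F.toImage_imageι, ← Scheme.Hom.comp_apply, hsq.isoPullback_inv_fst, he]
  have hm' : GrothLib.CycFlat.MaxFib (pullback.snd (ι ≫ p) x) (j w) := by
    intro v hv hvw
    obtain ⟨v', rfl⟩ := hrange v (hv.trans hw)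
    rw [hm v' hv (j.isEmbedding.isInducing.specializes_iff.1 hvw)]
  have hc : IsPullback (pullback.fst (ι ≫ p) x) (pullback.snd (ι ≫ p) x) (ι ≫ p) x :=
    IsPullback.of_hasPullback _ _
  have e1 := GrothLib.CycFlat.resTrdeg_comp j (pullback.snd (ι ≫ p) x) w
  rw [e1, GrothLib.CycPush.resTrdeg_finite j (RingHom.Finite.of_surjective _ (GrothLib.AffDom.residueFieldMap_surjective j w)),
    add_zero, GrothLib.CycFlat.resTrdeg_of_isPullback hc hm']
  have hmZ := GrothLib.CycFlat.maxFib_of_isPullback hc hm'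
  set z' := pullback.fst (ι ≫ p) x (j w) with hz'
  obtain ⟨z₀, hz₀⟩ : z ∈ Set.range ι := hZ.symm ▸ subset_closure rfl
  have hzz' : z ⤳ ι z' := specializes_iff_mem_closure.2 (hZ ▸ ⟨z', rfl⟩)
  have himg : p (ι z') = x.base (gp R) := by
    rw [← Scheme.Hom.comp_apply, hz', ← Scheme.Hom.comp_apply, pullback.condition, Scheme.Hom.comp_apply,
      show pullback.snd (ι ≫ p) x (j w) = gp R from hw]
  have hpz : p z = x.base (gp R) := by
    have hs : p z ⤳ x.base (gp R) := himg ▸ hzz'.map p.continuous
    exact (hs.antisymm (specializes_iff_mem_closure.2 (hx.2 isIrreducible_singleton.closure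
      hs.closure_subset (subset_closure rfl)))).eq
  have hzeq : z₀ = z' := hmZ z₀ (by
    rw [Scheme.Hom.comp_apply, Scheme.Hom.comp_apply, hz₀, hpz, himg])
    (ι.isEmbedding.isInducing.specializes_iff.1 (hz₀ ▸ hzz'))
  rw [GrothLib.CycFlat.resTrdeg_comp,
    GrothLib.CycPush.resTrdeg_finite ι (RingHom.Finite.of_surjective _ (GrothLib.AffDom.residueFieldMap_surjective ι z')),
    add_zero, ← hzeq, hz₀]
  obtain ⟨n, hn, hdim⟩ := GrothLib.Altitude.exists_trdeg_eq_dim_closure p z
  have hnr : n = r := by exact_mod_cast hdim.symm.trans hr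
  exact hn.trans (by rw [hnr])

end GrothLib.Equi17
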