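import Groth.Agent.Lib.Equi17.Closure
import Groth.Agent.Lib.SubtrLim.Submersive
import Groth.Agent.Lib.BlowUp.Universal
import Groth.Prelude.Def_BlowUp2
import Groth.Agent.S1682

/-!
# Flat strict transforms are universally equidimensional
-/

set_option autoImplicit false
universe u

open CategoryTheory Limits AlgebraicGeometry IsLocalRing GrothLib.SpSheaf17

namespace GrothLib.Equi17

/-- Relative dimension is detected at the generic points of the base. -/
theorem hasRelDim_of_generic {W B : Scheme.{u}} [IsLocallyNoetherian B] (q : W ⟶ B) [Flat q] [LocallyOfFiniteType q]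
    {r : ℕ} (h : ∀ w, (∀ y, y ⤳ q w → y = q w) → GrothLib.CycFlat.MaxFib q w → GrothLib.CycFlat.resTrdeg q w = r) :
    Cyc.HasRelDim q r := by
  rw [GrothLib.CycFlat.hasRelDim_iff]
  intro w hw
  obtain ⟨σ, hσ, hsp⟩ : ∃ σ : B, (∀ y, y ⤳ σ → y = σ) ∧ σ ⤳ q w := by
    let C := irreducibleComponent (q w)
    obtain ⟨σ, hσ⟩ := QuasiSober.sober (isIrreducible_irreducibleComponent (x := q w)) isClosed_irreducibleComponent
    refine ⟨σ, fun y hy => ?_, hσ.specializes mem_irreducibleComponent⟩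
    have hC := irreducibleComponent_mem_irreducibleComponents (q w)
    have h1 : irreducibleComponent (q w) ⊆ closure {y} := by rw [← hσ.def]; exact hy.closure_subset
    exact (hy.antisymm (hσ.specializes (hC.2 isIrreducible_singleton.closure h1 (subset_closure rfl)))).eq
  obtain ⟨D, _, _, _, g, hg0, hg1⟩ := GrothLib.SubtrLim.exists_dvr_map hsp
  haveI : IsNoetherianRing (CommRingCat.of D : Type u) := inferInstanceAs (IsNoetherianRing D)
  have hc : IsPullback (pullback.fst q g) (pullback.snd q g) q g := IsPullback.of_hasPullback q g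
  haveI : LocallyOfFiniteType (pullback.snd q g) := MorphismProperty.pullback_snd _ _ inferInstance
  have hgp : g (gp D) = σ := by
    rw [← hg0]
    congr 1
    refine (genericPoint_eq_bot_of_affine _).trans (PrimeSpectrum.ext ?_)
    rfl
  have hrel : Cyc.HasRelDim (pullback.snd q g) r := hasRelDim_dvr _ fun v hv hm => by
    rw [GrothLib.CycFlat.resTrdeg_of_isPullback hc hm]
    have hqv : q (pullback.fst q g v) = σ := by
      rw [← Scheme.Hom.comp_apply, pullback.condition, Scheme.Hom.comp_apply, hv, hgp]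
    exact h _ (hqv.symm ▸ hσ) (GrothLib.CycFlat.maxFib_of_isPullback hc hm)
  rw [GrothLib.CycFlat.hasRelDim_iff] at hrel
  obtain ⟨v, hv, hv'⟩ := Scheme.Pullback.exists_preimage_pullback (f := q) (g := g) w (closedPoint D) hg1.symm
  obtain ⟨v₀, hm₀, hv₀, hs₀⟩ := GrothLib.CycFlat.exists_maxFib_specializes (pullback.snd q g) v
  have hw₀ : pullback.fst q g v₀ = w := hw _ (by
    rw [← hv, ← Scheme.Hom.comp_apply, ← Scheme.Hom.comp_apply, pullback.condition, Scheme.Hom.comp_apply,
      Scheme.Hom.comp_apply, hv₀]) (hv ▸ hs₀.map (pullback.fst q g).continuous)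
  rw [← hw₀, ← GrothLib.CycFlat.resTrdeg_of_isPullback hc hm₀]
  exact hrel v₀ hm₀

/-- Away from the inverse image of the centre everything lies in the strict transform. -/
theorem mem_support_strict {P : Scheme.{u}} (ℰ : P.IdealSheafData) (𝒥 : P.IdealSheafData)
    (h𝒥 : ∀ (V : P.affineOpens) (a : Γ(P, V.1)), a ∈ 𝒥.ideal V ↔
      BlowUp.KilledByPowerNear ℰ (Coh.structureModule P) V a) {v : P} (hv : v ∉ ℰ.support) :
    v ∈ 𝒥.support := by
  obtain ⟨V, hV, hvV, -⟩ := exists_isAffineOpen_mem_and_subset (x := v) (U := ⊤) trivial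
  by_contra hc
  rw [Scheme.IdealSheafData.mem_support_iff_of_mem (U := ⟨V, hV⟩) hvV, Scheme.mem_zeroLocus_iff] at hc
  rw [Scheme.IdealSheafData.mem_support_iff_of_mem (U := ⟨V, hV⟩) hvV, Scheme.mem_zeroLocus_iff] at hv
  push Not at hc hv
  obtain ⟨a, ha, hva⟩ := hc
  obtain ⟨e, he, hve⟩ := hv
  obtain ⟨n, hn⟩ := (h𝒥 ⟨V, hV⟩ a).1 ha
  have h0 : (e ^ n) * a = 0 := hn (e ^ n) (by
    rw [Scheme.IdealSheafData.ideal_pow, Pi.pow_apply]
    exact Ideal.pow_mem_pow he n)
  have h1 : v ∈ P.basicOpen (e ^ n * a) := by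
    rw [Scheme.basicOpen_mul]
    refine ⟨?_, hva⟩
    rw [SetLike.mem_coe, Scheme.mem_basicOpen _ _ v hvV]
    rw [Scheme.mem_basicOpen _ _ v hvV] at hve
    rw [map_pow]
    exact hve.pow n
  rw [h0, Scheme.basicOpen_zero] at h1
  exact h1

/-- The strict transform along a blow-up, when flat, has relative dimension `r`. -/
theorem strict_hasRelDim {X S Z S' : Scheme.{u}} [IsLocallyNoetherian S'] (p : X ⟶ S) [LocallyOfFiniteType p]
    (z : X) (hz : closure {p.base z} ∈ irreducibleComponents ↥S) (r : ℕ)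
    (hr : topologicalKrullDim ↥(closure ({p.asFiber z} : Set ↥(p.fiber (p.base z)))) = r)
    (ι : Z ⟶ X) [IsClosedImmersion ι] (hZ : Set.range ι.base = closure {z})
    (𝓘 : S.IdealSheafData) (b : S' ⟶ S) (hb : BlowUp.IsBlowUp b 𝓘)
    (𝒥 : (pullback (ι ≫ p) b).IdealSheafData)
    (h𝒥 : ∀ (V : (pullback (ι ≫ p) b).affineOpens) (a : Γ(pullback (ι ≫ p) b, V.1)), a ∈ 𝒥.ideal V ↔
      BlowUp.KilledByPowerNear ((𝓘.comap (ι ≫ p)).comap (pullback.fst (ι ≫ p) b)) (Coh.structureModule (pullback (ι ≫ p) b)) V a)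
    [Flat (𝒥.subschemeι ≫ pullback.snd (ι ≫ p) b)] :
    Cyc.HasRelDim (𝒥.subschemeι ≫ pullback.snd (ι ≫ p) b) r := by
  haveI : LocallyOfFiniteType (pullback.snd (ι ≫ p) b) := MorphismProperty.pullback_snd _ _ inferInstance
  refine hasRelDim_of_generic _ fun w hσ hm => ?_
  set j := 𝒥.subschemeι with hj
  set σ := (j ≫ pullback.snd (ι ≫ p) b) w with hσdef
  have hσE : σ ∉ (𝓘.comap b).support := GrothLib.BlowUp.notMem_support_of_maximal hb.1 hσ
  have hbσ : b σ ∈ 𝓘.support.compl := fun h => hσE (by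
    rw [← SetLike.mem_coe, Scheme.IdealSheafData.support_comap]; exact h)
  -- the image of σ is a generic point
  have hmaxS : ∀ y, y ⤳ b σ → y = b σ := by
    intro y hy
    have hyU : y ∈ 𝓘.support.compl := hy.mem_open 𝓘.support.compl.2 hbσ
    let U : S.Opens := 𝓘.support.compl
    haveI : IsIso (b ∣_ U) := Groth.Agent.S1682.result 𝓘 b hb
    let c := (b ∣_ U) ≫ U.ι
    have hc : c = (b ⁻¹ᵁ U).ι ≫ b := morphismRestrict_ι b _
    obtain ⟨y', hy', hyy⟩ := Flat.generalizingMap c (a := ⟨σ, hbσ⟩) (b := y) (by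
      show y ⤳ c ⟨σ, hbσ⟩
      rw [hc, Scheme.Hom.comp_apply]
      exact hy)
    have h1 := hσ _ (hy'.map (b ⁻¹ᵁ U).ι.continuous)
    rw [← hyy]
    show c y' = b σ
    rw [hc, Scheme.Hom.comp_apply]
    exact congrArg b h1
  have hrange : ∀ v : ↥(pullback (ι ≫ p) b), pullback.snd (ι ≫ p) b v = σ → v ∈ Set.range j := by
    intro v hv
    rw [hj, Scheme.IdealSheafData.range_subschemeι]
    refine mem_support_strict _ 𝒥 h𝒥 fun h => ?_
    rw [← SetLike.mem_coe, Scheme.IdealSheafData.support_comap] at h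
    simp only [TopologicalSpace.Closeds.coe_preimage, Set.mem_preimage, Scheme.IdealSheafData.support_comap] at h
    refine hbσ ?_
    rw [← hv, ← Scheme.Hom.comp_apply, ← pullback.condition, Scheme.Hom.comp_apply]
    exact h
  have hm' : GrothLib.CycFlat.MaxFib (pullback.snd (ι ≫ p) b) (j w) := by
    intro v hv hvw
    obtain ⟨v', rfl⟩ := hrange v hv
    rw [hm v' hv (j.isEmbedding.isInducing.specializes_iff.1 hvw)]
  have hc : IsPullback (pullback.fst (ι ≫ p) b) (pullback.snd (ι ≫ p) b) (ι ≫ p) b :=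
    IsPullback.of_hasPullback _ _
  have e1 := GrothLib.CycFlat.resTrdeg_comp j (pullback.snd (ι ≫ p) b) w
  rw [e1, GrothLib.CycPush.resTrdeg_finite j (RingHom.Finite.of_surjective _ (GrothLib.AffDom.residueFieldMap_surjective j w)),
    add_zero, GrothLib.CycFlat.resTrdeg_of_isPullback hc hm']
  have hmZ := GrothLib.CycFlat.maxFib_of_isPullback hc hm'
  set z' := pullback.fst (ι ≫ p) b (j w) with hz'
  obtain ⟨z₀, hz₀⟩ : z ∈ Set.range ι := hZ.symm ▸ subset_closure rfl
  have hzz' : z ⤳ ι z' := specializes_iff_mem_closure.2 (hZ ▸ ⟨z', rfl⟩)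
  have himg : p (ι z') = b σ := by
    rw [← Scheme.Hom.comp_apply, hz', ← Scheme.Hom.comp_apply, pullback.condition, Scheme.Hom.comp_apply]
    rfl
  have hpz : p z = b σ := hmaxS _ (himg ▸ hzz'.map p.continuous)
  have hzeq : z₀ = z' := hmZ z₀ (by
    rw [Scheme.Hom.comp_apply, Scheme.Hom.comp_apply, hz₀, hpz, himg])
    (ι.isEmbedding.isInducing.specializes_iff.1 (hz₀ ▸ hzz'))
  rw [GrothLib.CycFlat.resTrdeg_comp,
    GrothLib.CycPush.resTrdeg_finite ι (RingHom.Finite.of_surjective _ (GrothLib.AffDom.residueFieldMap_surjective ι z')),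
    add_zero, ← hzeq, hz₀]
  obtain ⟨n, hn, hdim⟩ := GrothLib.Altitude.exists_trdeg_eq_dim_closure p z
  have hnr : n = r := by exact_mod_cast hdim.symm.trans hr
  exact hn.trans (by rw [hnr])

end GrothLib.Equi17
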